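import Cfsg.Agent.H539.Lim.DefsZ

/-!
# S5242 (TEAM LIM), pieces GA2, GA3: `Z(X)` as a module for `N(X)`, the collection `VX`
-/

set_option autoImplicit false

namespace Cfsg.Agent.H647.Lim

open MulAction Cfsg.Agent.H539.Lim

universe u v w

section general

variable {G : Type u} [Group G] {Ω : Type v} [MulAction G Ω]

/-- only the `p`-subgroups in `V` matter -/
theorem van_congr_coef {p : ℕ} (hΩ : PSet p G Ω) (C : Coef.{u, w} G) {V V' : Set (Subgroup G)}
    (h : ∀ P : Subgroup G, IsPGroup p P → (P ∈ V ↔ P ∈ V')) {n : ℕ} (hv : C.Van Ω V n) : C.Van Ω V' n := by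
  have hst : ∀ (k : ℕ) (x : Fin (k + 1) → Ω), st G x ∈ V ↔ st G x ∈ V' := by
    intro k x
    apply h
    refine (hΩ.pgroup (x 0)).to_le ?_
    intro g hg
    rw [mem_stabilizer_iff] at hg ⊢
    exact congrFun hg 0
  cases n with
  | zero =>
    intro c hc hcc
    refine hv c ⟨hc.equiv, fun x hx => hc.supp x fun h' => hx ((hst 0 x).2 h')⟩ ?_
    intro x hx
    exact hcc x ((hst 1 x).1 hx)
  | succ n =>
    intro c hc hcc
    obtain ⟨b, hb, hbc⟩ := hv c ⟨hc.equiv, fun x hx => hc.supp x fun h' => hx ((hst _ x).2 h')⟩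
      (fun x hx => hcc x ((hst _ x).1 hx))
    exact ⟨b, ⟨hb.equiv, fun x hx => hb.supp x fun h' => hx ((hst _ x).1 h')⟩,
      fun x hx => hbc x ((hst _ x).2 hx)⟩

theorem centric_mono {p : ℕ} {P Q : Subgroup G} (h : P ≤ Q) (hP : Centric p P) : Centric p Q := by
  intro u hu hk
  exact h (hP u (fun v hv => hu v (h hv)) hk)

theorem mem_cj {g : G} {P : Subgroup G} {x : G} : x ∈ cj g P ↔ g⁻¹ * x * g ∈ P := by
  constructor
  · rintro ⟨y, hy, rfl⟩
    have : g⁻¹ * (MulAut.conj g).toMonoidHom y * g = y := by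
      change g⁻¹ * (g * y * g⁻¹) * g = y
      group
    rw [this]; exact hy
  · intro hx
    refine ⟨_, hx, ?_⟩
    change g * (g⁻¹ * x * g) * g⁻¹ = x
    group

theorem pow_conj (g u : G) (n : ℕ) : (g⁻¹ * u * g) ^ n = g⁻¹ * u ^ n * g := by
  have := conj_pow (a := g⁻¹) (b := u) (i := n)
  simpa using this

theorem centric_cj {p : ℕ} (g : G) {P : Subgroup G} (hP : Centric p P) : Centric p (cj g P) := by
  rintro u hu ⟨k, hk⟩
  rw [mem_cj]
  apply hP
  · intro v hv
    have h1 := hu (g * v * g⁻¹) ⟨v, hv, rfl⟩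
    calc g⁻¹ * u * g * v = g⁻¹ * (u * (g * v * g⁻¹)) * g := by group
      _ = g⁻¹ * (g * v * g⁻¹ * u) * g := by rw [h1]
      _ = v * (g⁻¹ * u * g) := by group
  · exact ⟨k, by rw [pow_conj, hk]; group⟩

theorem isPGroup_cj {p : ℕ} (g : G) {P : Subgroup G} (hP : IsPGroup p P) : IsPGroup p (cj g P) :=
  hP.map _

theorem map_cj_subtype {N : Subgroup G} (g : N) (Q : Subgroup N) :
    (cj g Q).map N.subtype = cj (g : G) (Q.map N.subtype) := by
  rw [cj, cj, Subgroup.map_map, Subgroup.map_map]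
  rfl

end general

section DZ

variable {G : Type u} [Group G]

/-- the centre of `X` as a subgroup of `G` -/
def zX (X : Subgroup G) : Subgroup G where
  carrier := {z | z ∈ X ∧ ∀ u ∈ X, z * u = u * z}
  one_mem' := ⟨X.one_mem, fun u _ => by simp⟩
  mul_mem' := by
    rintro a b ⟨ha, ha'⟩ ⟨hb, hb'⟩
    refine ⟨X.mul_mem ha hb, fun u hu => ?_⟩
    rw [mul_assoc, hb' u hu, ← mul_assoc, ha' u hu, mul_assoc]
  inv_mem' := by
    rintro a ⟨ha, ha'⟩
    refine ⟨X.inv_mem ha, fun u hu => ?_⟩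
    have := ha' u hu
    calc a⁻¹ * u = a⁻¹ * (u * a) * a⁻¹ := by group
      _ = a⁻¹ * (a * u) * a⁻¹ := by rw [this]
      _ = u * a⁻¹ := by group

theorem mem_zX {X : Subgroup G} {z : G} : z ∈ zX X ↔ z ∈ X ∧ ∀ u ∈ X, z * u = u * z := Iff.rfl

instance (X : Subgroup G) : CommGroup ↥(zX X) :=
  { (inferInstance : Group ↥(zX X)) with
    mul_comm := fun a b => Subtype.ext (a.2.2 b.1 b.2.1) }

/-- the centre of `X` as a module for the normalizer -/
def DZ (X : Subgroup G) : Type u := Additive ↥(zX X)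

instance (X : Subgroup G) : AddCommGroup (DZ X) := inferInstanceAs (AddCommGroup (Additive ↥(zX X)))

instance (X : Subgroup G) [Finite G] : Finite (DZ X) := inferInstanceAs (Finite ↥(zX X))

/-- the element of the group -/
def DZ.val {X : Subgroup G} (d : DZ X) : G := ((Additive.toMul (show Additive ↥(zX X) from d) : ↥(zX X)) : G)

/-- the element of the module -/
def DZ.mk {X : Subgroup G} (z : G) (hz : z ∈ zX X) : DZ X := Additive.ofMul (⟨z, hz⟩ : ↥(zX X))

theorem DZ.ext {X : Subgroup G} {a b : DZ X} (h : a.val = b.val) : a = b := by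
  apply Additive.toMul.injective
  exact Subtype.ext h

@[simp] theorem DZ.val_mk {X : Subgroup G} (z : G) (hz : z ∈ zX X) : (DZ.mk z hz).val = z := rfl
theorem DZ.val_mem {X : Subgroup G} (d : DZ X) : d.val ∈ zX X := (Additive.toMul (show Additive ↥(zX X) from d)).2
@[simp] theorem DZ.val_zero {X : Subgroup G} : (0 : DZ X).val = 1 := rfl
@[simp] theorem DZ.val_add {X : Subgroup G} (a b : DZ X) : (a + b).val = a.val * b.val := rfl

theorem zX_conj {X : Subgroup G} {g z : G} (hg : g ∈ Nz X) (hz : z ∈ zX X) : g * z * g⁻¹ ∈ zX X := by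
  refine ⟨(Subgroup.mem_normalizer_iff.mp hg z).1 hz.1, fun u hu => ?_⟩
  have h1 : g⁻¹ * u * g ∈ X := by
    have := (Subgroup.mem_normalizer_iff.mp (Subgroup.inv_mem _ hg) u).mp hu
    simpa using this
  have h2 := hz.2 _ h1
  calc g * z * g⁻¹ * u = g * (z * (g⁻¹ * u * g)) * g⁻¹ := by group
    _ = g * (g⁻¹ * u * g * z) * g⁻¹ := by rw [h2]
    _ = u * (g * z * g⁻¹) := by group

instance (X : Subgroup G) : DistribMulAction ↥(Nz X) (DZ X) where
  smul g d := DZ.mk ((g : G) * d.val * (g : G)⁻¹) (zX_conj g.2 d.val_mem)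
  one_smul d := DZ.ext (by
    change (1 : G) * d.val * (1 : G)⁻¹ = d.val
    group)
  mul_smul a b d := DZ.ext (by
    change ((a : G) * (b : G)) * d.val * ((a : G) * (b : G))⁻¹ = (a : G) * ((b : G) * d.val * (b : G)⁻¹) * (a : G)⁻¹
    group)
  smul_zero g := DZ.ext (by
    change (g : G) * 1 * (g : G)⁻¹ = 1
    group)
  smul_add g a b := DZ.ext (by
    change (g : G) * (a.val * b.val) * (g : G)⁻¹ = ((g : G) * a.val * (g : G)⁻¹) * ((g : G) * b.val * (g : G)⁻¹)
    group)

theorem DZ.val_smul {X : Subgroup G} (g : ↥(Nz X)) (d : DZ X) : (g • d).val = (g : G) * d.val * (g : G)⁻¹ := rfl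

theorem DZ.smul_eq_iff {X : Subgroup G} (g : ↥(Nz X)) (d : DZ X) : g • d = d ↔ (g : G) * d.val = d.val * (g : G) := by
  constructor
  · intro h
    have h1 := congrArg DZ.val h
    rw [DZ.val_smul] at h1
    rwa [mul_inv_eq_iff_eq_mul] at h1
  · intro h
    apply DZ.ext
    rw [DZ.val_smul, h]
    group

theorem DZ.val_nsmul {X : Subgroup G} (n : ℕ) (d : DZ X) : (n • d).val = d.val ^ n := by
  induction n with
  | zero => rw [zero_smul, pow_zero]; rfl
  | succ n ih => rw [succ_nsmul, DZ.val_add, ih, pow_succ]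

theorem isPTors_DZ {p : ℕ} {X : Subgroup G} (hX : IsPGroup p X) : IsPTors p (DZ X) := by
  intro d
  obtain ⟨k, hk⟩ := hX ⟨d.val, d.val_mem.1⟩
  refine ⟨k, DZ.ext ?_⟩
  rw [DZ.val_nsmul]
  exact congrArg Subtype.val hk

end DZ

/-- the collection of the piece -/
def VX {G : Type u} [Group G] (p : ℕ) (X : Subgroup G) : Set (Subgroup ↥(Nz X)) :=
  {Q | Centric p (Q.map (Nz X).subtype) ∧ IsPGroup p Q ∧ JT (Q.map (Nz X).subtype) = X}

end Cfsg.Agent.H647.Lim
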